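import Mathlib
import Cfsg.Agent.Lib.Hall.MinimalNormal
import Cfsg.Agent.Lib.PLocal.PSolvable
import Cfsg.Agent.Lib.Coprime.Sylow
import Cfsg.Agent.Lib.Counting.SylowCount
import Cfsg.Agent.Lib.CharTheory.RealPPrime.NormalSylow

/-!
A Sylow `q`-subgroup normalised by the normalizer of a Sylow `p`-subgroup, in a group solvable for
both primes.
-/

set_option autoImplicit false
set_option linter.style.haveILetI false
set_option linter.unusedSectionVars false

namespace Cfsg.Agent.CharTheory.CrossCoprime

open Subgroup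
open scoped Pointwise

universe u

variable {G : Type u} [Group G] [Finite G] {p q : ℕ} [Fact p.Prime] [Fact q.Prime]

/-- A minimal normal subgroup of a `p`-solvable group. -/
theorem minimal_cases (hps : Cfsg.IsPSolvable p G) {N : Subgroup G} [N.Normal] (hN : N ≠ ⊥)
    (hmin : ∀ K : Subgroup G, K.Normal → K ≤ N → K = ⊥ ∨ K = N) :
    IsPGroup p N ∨ ¬ p ∣ Nat.card N := by
  haveI : Nontrivial N := N.nontrivial_iff_ne_bot.2 hN
  rcases PLocal.PSolvable.exists_core_ne_bot (PLocal.PSolvable.subgroup hps N) with h | h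
  · left
    haveI : (Cfsg.pCore p N).Normal := Cores.pCore_normal p
    rcases hmin ((Cfsg.pCore p N).map N.subtype) (by
        haveI : (Cfsg.pCore p N).Characteristic := Cores.pCore_characteristic p
        exact Cores.normal_map_subtype N _) (map_subtype_le _) with h' | h'
    · exact absurd ((map_eq_bot_iff_of_injective _ N.subtype_injective).1 h') h
    · have := (Cores.pCore_isPGroup (G := N) p).map N.subtype
      rwa [h'] at this
  · right
    haveI : (Cfsg.pPrimeCore p N).Characteristic := Cores.pPrimeCore_characteristic p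
    rcases hmin ((Cfsg.pPrimeCore p N).map N.subtype) (Cores.normal_map_subtype N _)
      (map_subtype_le _) with h' | h'
    · exact absurd ((map_eq_bot_iff_of_injective _ N.subtype_injective).1 h') h
    · rw [← h', card_map_of_injective N.subtype_injective]
      exact Cores.pPrimeCore_not_dvd p

theorem not_dvd_of_isPGroup {ℓ : ℕ} [Fact ℓ.Prime] {A : Subgroup G} (hA : IsPGroup p A)
    (hne : ℓ ≠ p) : ¬ ℓ ∣ Nat.card A := by
  obtain ⟨k, hk⟩ := IsPGroup.iff_card.1 hA
  rw [hk]
  intro h
  exact hne ((Nat.prime_dvd_prime_iff_eq Fact.out Fact.out).1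
    ((Fact.out : ℓ.Prime).dvd_of_dvd_pow h))

theorem le_sylow {A : Subgroup G} [A.Normal] (hA : IsPGroup q A) (H : Sylow q G) :
    A ≤ (H : Subgroup G) := by
  rw [← H.3 (H.isPGroup'.to_sup_of_normal_right hA) le_sup_left]
  exact le_sup_right

/-- If a normal subgroup of order prime to `q` centralizes a `q`-subgroup, their product has no
further `q`-elements. -/
theorem mem_of_mem_sup {R N : Subgroup G} [N.Normal] (hR : IsPGroup q R)
    (hN : ¬ q ∣ Nat.card N) (hc : N ≤ centralizer (R : Set G)) {x : G} (hx : x ∈ R ⊔ N) {k : ℕ}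
    (hk : x ^ q ^ k = 1) : x ∈ R := by
  have hx' : x ∈ (↑(R ⊔ N) : Set G) := hx
  rw [mul_normal] at hx'
  obtain ⟨r, hr, n, hn, rfl⟩ := hx'
  obtain ⟨j, hj⟩ := hR ⟨r, hr⟩
  have hj' : r ^ q ^ j = 1 := congrArg Subtype.val hj
  have hcomm : Commute r n := mem_centralizer_iff.1 (hc hn) r hr
  have hk' : (r * n) ^ q ^ k = 1 := hk
  have h1 : (r * n) ^ q ^ (k + j) = 1 := by rw [pow_add, pow_mul, hk', one_pow]
  rw [hcomm.mul_pow, show r ^ q ^ (k + j) = 1 by rw [pow_add, mul_comm, pow_mul, hj', one_pow],
    one_mul] at h1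
  have h3 := pow_gcd_eq_one.2 ⟨h1, orderOf_dvd_iff_pow_eq_one.1 (N.orderOf_dvd_natCard hn)⟩
  rw [show Nat.gcd (q ^ (k + j)) (Nat.card N) = 1 from
    ((Fact.out : q.Prime).coprime_iff_not_dvd.2 hN).pow_left _, pow_one] at h3
  show r * n ∈ R
  rw [h3, mul_one]
  exact hr

theorem sylow_eq_of_le_sup {N : Subgroup G} [N.Normal] (H H' : Sylow q G)
    (hN : ¬ q ∣ Nat.card N) (hc : N ≤ centralizer ((H : Subgroup G) : Set G))
    (hle : (H' : Subgroup G) ≤ (H : Subgroup G) ⊔ N) : H' = H := by
  refine Sylow.ext (H'.3 H.isPGroup' fun x hx => ?_).symm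
  obtain ⟨k, hk⟩ := H'.isPGroup' ⟨x, hx⟩
  exact mem_of_mem_sup H.isPGroup' hN hc (hle hx) (congrArg Subtype.val hk :)

/-- A normal `p`-subgroup normalising a Sylow `q`-subgroup centralizes it. -/
theorem le_centralizer_of_normalizes {N : Subgroup G} [N.Normal] (H : Sylow q G)
    (hN : ¬ q ∣ Nat.card N) (hle : N ≤ normalizer ((H : Subgroup G) : Set G)) :
    N ≤ centralizer ((H : Subgroup G) : Set G) := by
  intro n hn
  rw [mem_centralizer_iff]
  intro h hh
  have h1 : h * n * h⁻¹ * n⁻¹ ∈ (H : Subgroup G) := by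
    rw [show h * n * h⁻¹ * n⁻¹ = h * (n * h⁻¹ * n⁻¹) by group]
    exact mul_mem hh ((mem_normalizer_iff.1 (hle hn) h⁻¹).1 (inv_mem hh))
  have h2 : h * n * h⁻¹ * n⁻¹ ∈ N := mul_mem ((‹N.Normal›).conj_mem n hn h) (inv_mem hn)
  obtain ⟨j, hj⟩ := H.isPGroup' ⟨_, h1⟩
  have h3 := pow_gcd_eq_one.2 ⟨(congrArg Subtype.val hj :),
    orderOf_dvd_iff_pow_eq_one.1 (N.orderOf_dvd_natCard h2)⟩
  rw [show Nat.gcd (q ^ j) (Nat.card N) = 1 from
    ((Fact.out : q.Prime).coprime_iff_not_dvd.2 hN).pow_left j, pow_one, mul_inv_eq_one,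
    mul_inv_eq_iff_eq_mul] at h3
  exact h3

theorem nrm_quotient {P : Sylow p G} {H : Sylow q G} (N : Subgroup G) [N.Normal]
    (hle : normalizer ((P : Subgroup G) : Set G) ≤ normalizer ((H : Subgroup G) : Set G)) :
    normalizer (((P.mapSurjective (QuotientGroup.mk'_surjective N) : Sylow p (G ⧸ N)) :
        Subgroup (G ⧸ N)) : Set (G ⧸ N)) ≤
      normalizer (((H.mapSurjective (QuotientGroup.mk'_surjective N) : Sylow q (G ⧸ N)) :
        Subgroup (G ⧸ N)) : Set (G ⧸ N)) := by
  intro x hx
  have hx' : x ∈ normalizer (((P : Subgroup G).map (QuotientGroup.mk' N)) : Set (G ⧸ N)) := hx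
  rw [Counting.SylowCount.normalizer_map_mk'] at hx'
  obtain ⟨g, hg, rfl⟩ := hx'
  exact le_normalizer_map _ (mem_map_of_mem _ (hle hg))

theorem unique_and_contains : ∀ (d : ℕ) (G : Type u) [Group G] [Finite G], Nat.card G ≤ d →
    Cfsg.IsPSolvable p G → Cfsg.IsPSolvable q G → p ≠ q → ∀ (P : Sylow p G) (H : Sylow q G),
    normalizer ((P : Subgroup G) : Set G) ≤ normalizer ((H : Subgroup G) : Set G) →
    (∀ H' : Sylow q G, (P : Subgroup G) ≤ normalizer ((H' : Subgroup G) : Set G) → H' = H) ∧
    (∀ T : Subgroup G, (P : Subgroup G) ≤ T → ¬ q ∣ T.index → (H : Subgroup G) ≤ T) := by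
  intro d
  induction d with
  | zero => intro G _ _ hd; exact absurd hd (by have := Nat.card_pos (α := G); omega)
  | succ d ih =>
    intro G _ _ hd hps hqs hpq P H hle
    classical
    rcases subsingleton_or_nontrivial G with hs | hs
    · exact ⟨fun H' _ => Sylow.ext (Subgroup.ext fun x => by simp [Subsingleton.elim x 1]),
        fun T _ _ x _ => by simp [Subsingleton.elim x 1]⟩
    obtain ⟨V, hV, -, hVne, hmin⟩ := Hall.exists_minimal_normal (⊤ : Subgroup G) bot_lt_top.ne'
    haveI := hV
    set π := QuotientGroup.mk' V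
    have hπ : Function.Surjective π := QuotientGroup.mk'_surjective V
    have hlt : Nat.card (G ⧸ V) ≤ d := by
      have h1 := V.card_mul_index
      rw [Subgroup.index_eq_card] at h1
      have h2 := (Subgroup.one_lt_card_iff_ne_bot V).2 hVne
      have h3 : 0 < Nat.card (G ⧸ V) := Nat.card_pos
      nlinarith
    obtain ⟨ihU, ihT⟩ := ih (G ⧸ V) hlt (PLocal.PSolvable.quotient hps V)
      (PLocal.PSolvable.quotient hqs V) hpq (P.mapSurjective hπ) (H.mapSurjective hπ)
      (nrm_quotient V hle)
    have hker : π.ker = V := QuotientGroup.ker_mk' V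
    have hsupU : ∀ H' : Sylow q G, (P : Subgroup G) ≤ normalizer ((H' : Subgroup G) : Set G) →
        (H' : Subgroup G) ⊔ V = (H : Subgroup G) ⊔ V := by
      intro H' h'
      have := congrArg (fun S : Sylow q (G ⧸ V) => (S : Subgroup (G ⧸ V)).comap π)
        (ihU (H'.mapSurjective hπ) ((map_mono h').trans (le_normalizer_map _)))
      simp only [Sylow.coe_mapSurjective, comap_map_eq, hker] at this
      exact this
    set W := (H : Subgroup G) ⊔ V
    have hPW : (P : Subgroup G) ≤ normalizer (W : Set G) := fun x hx =>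
      normal_le_normalizer_sup_aux (hle (le_normalizer hx))
    have hWcop : ¬ p ∣ Nat.card V → (Nat.card (P : Subgroup G)).Coprime (Nat.card W) := by
      intro hV'
      obtain ⟨k, hk⟩ := IsPGroup.iff_card.1 P.isPGroup'
      rw [hk]
      refine Nat.Coprime.pow_left _ ((Fact.out : p.Prime).coprime_iff_not_dvd.2 fun h => ?_)
      rcases (Fact.out : p.Prime).dvd_mul.1 (h.trans (Cores.card_sup_dvd_mul _ _)) with h' | h'
      · exact not_dvd_of_isPGroup H.isPGroup' hpq h'
      · exact hV' h'
    haveI : Group.IsSolvable (P : Subgroup G) := by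
      haveI : Group.IsNilpotent (P : Subgroup G) := P.isPGroup'.isNilpotent
      infer_instance
    have huniq : ∀ H' : Sylow q G, (P : Subgroup G) ≤ normalizer ((H' : Subgroup G) : Set G) →
        H' = H := by
      intro H' h'
      have hsup := hsupU H' h'
      rcases minimal_cases (p := q) hqs hVne hmin with hq | hq
      · exact Sylow.ext (by
          rw [← sup_eq_left.2 (le_sylow hq H'), hsup]
          exact sup_eq_left.2 (le_sylow hq H))
      rcases minimal_cases (p := p) hps hVne hmin with hp | hp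
      · exact sylow_eq_of_le_sup H H' hq (le_centralizer_of_normalizes H hq
          ((le_sylow hp P).trans (le_normalizer.trans hle))) (le_sup_left.trans hsup.le)
      · have hH'W : (H' : Subgroup G) ≤ W := le_sup_left.trans hsup.le
        obtain ⟨c, hc, hcH⟩ := Coprime.exists_centralizer_conj_sylow hPW (hWcop hp)
          (Or.inl inferInstance) (H.subtype le_sup_left) (H'.subtype hH'W)
          (by rw [Sylow.coe_subtype, map_subgroupOf_eq_of_le le_sup_left]
              exact le_normalizer.trans hle)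
          (by rw [Sylow.coe_subtype, map_subgroupOf_eq_of_le hH'W]; exact h')
        have h1 := congrArg (fun S : Sylow q W => (S : Subgroup W).map W.subtype) hcH
        simp only [Coprime.sylow_map_smul, Sylow.coe_subtype,
          map_subgroupOf_eq_of_le hH'W] at h1
        refine Sylow.ext ?_
        rw [← h1, map_subgroupOf_eq_of_le le_sup_left]
        exact Coprime.conj_smul_eq_self_iff.2 (hle (centralizer_le_normalizer _ hc))
    refine ⟨huniq, fun T hPT hT => ?_⟩
    have hT' : W ≤ T ⊔ V := by
      have := ihT (T.map π) (map_mono hPT) fun h => hT (h.trans (index_map_dvd _ hπ))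
      have h2 : ((H : Subgroup G).map π).comap π ≤ (T.map π).comap π := comap_mono this
      simpa only [comap_map_eq, hker] using h2
    by_cases hVT : V ≤ T
    · exact le_sup_left.trans (hT'.trans (sup_le le_rfl hVT))
    rcases minimal_cases (p := q) hqs hVne hmin with hq | hq
    · exfalso
      obtain ⟨g, hg⟩ := RealPPrime.exists_conj_le hq T hT
      refine hVT fun v hv => ?_
      have := hg (g * v * g⁻¹) (hV.conj_mem v hv g)
      simpa [mul_assoc] using this
    rcases minimal_cases (p := p) hps hVne hmin with hp | hp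
    · exact absurd ((le_sylow hp P).trans hPT) hVT
    set D := T ⊓ W
    have hDW : D ≤ W := inf_le_right
    have hDV : D ⊔ V = W := by
      refine le_antisymm (sup_le hDW le_sup_right) fun x hx => ?_
      have hx' : x ∈ (↑(T ⊔ V) : Set G) := hT' hx
      rw [mul_normal] at hx'
      obtain ⟨t, ht, v, hv, rfl⟩ := hx'
      refine mul_mem_sup ⟨ht, ?_⟩ hv
      have := mul_mem hx (inv_mem (le_sup_right (a := (H : Subgroup G)) hv))
      rwa [mul_inv_cancel_right] at this
    have hidx : ¬ q ∣ D.relIndex W := by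
      rw [← hDV, RealPPrime.relIndex_sup_normal]
      exact fun h => hq (h.trans ((D ⊓ V).subgroupOf V).index_dvd_card)
    have hPD : (P : Subgroup G) ≤ normalizer (D : Set G) :=
      (le_inf (hPT.trans le_normalizer) hPW).trans inf_normalizer_le_normalizer_inf
    obtain ⟨S, hS⟩ := Coprime.exists_invariant_sylow q hPD
      ((hWcop hp).coprime_dvd_right (card_dvd_of_le hDW)) (Or.inl inferInstance)
    set S' := (S : Subgroup D).map D.subtype with hS'
    have hS'p : IsPGroup q S' := S.isPGroup'.map _
    have hidx' : ¬ q ∣ S'.index := by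
      intro h
      have h1 := relIndex_mul_index (H := S') (K := D) (map_subtype_le _)
      have h2 := relIndex_mul_index (H := D) (K := W) hDW
      have h3 := relIndex_mul_index (H := (H : Subgroup G)) (K := W) le_sup_left
      rw [← h1, (Fact.out : q.Prime).dvd_mul] at h
      rcases h with h | h
      · refine S.not_dvd_index ?_
        rwa [relIndex, hS', subgroupOf, comap_map_eq_self_of_injective D.subtype_injective] at h
      · rw [← h2, (Fact.out : q.Prime).dvd_mul] at h
        rcases h with h | h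
        · exact hidx h
        · exact H.not_dvd_index (h3 ▸ h.mul_left _)
    have hS'c : (hS'p.toSylow hidx' : Subgroup G) = S' := IsPGroup.toSylow_coe _ _
    have := huniq (hS'p.toSylow hidx') (by rw [hS'c]; exact hS)
    rw [← this, hS'c]
    exact (map_subtype_le _).trans inf_le_left
where
  normal_le_normalizer_sup_aux {G : Type u} [Group G] [Finite G] {A V : Subgroup G} [V.Normal]
      {x : G} (hx : x ∈ normalizer (A : Set G)) : x ∈ normalizer ((A ⊔ V : Subgroup G) : Set G) := by
    have hall : ∀ y ∈ A ⊔ V, x * y * x⁻¹ ∈ A ⊔ V := by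
      intro y hy
      have h1 : (A ⊔ V).map (MulAut.conj x).toMonoidHom ≤ A ⊔ V := by
        rw [Subgroup.map_sup]
        refine sup_le_sup ?_ ?_
        · rintro - ⟨a, ha, rfl⟩
          exact (mem_normalizer_iff.1 hx a).1 ha
        · rintro - ⟨a, ha, rfl⟩
          exact (‹V.Normal›).conj_mem a ha x
      exact h1 (mem_map_of_mem _ hy)
    rw [mem_normalizer_iff]
    exact fun y => ⟨hall y, RealPPrime.mem_of_conj_mem _ _ hall⟩

end Cfsg.Agent.CharTheory.CrossCoprime
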