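import Mathlib
import Cfsg.Agent.Lib.CharTheory.CrossCoprime.Sylow
import Cfsg.Agent.Lib.CharTheory.ExtendChar
import Cfsg.Agent.Lib.CharTheory.RelativeM
import Cfsg.Agent.Lib.CharTheory.Ito
import Cfsg.Agent.Lib.Coprime.Commutator
import Cfsg.Agent.Lib.Coprime.PGroup
import Cfsg.Agent.BlockCharsA.GlaubermanSolvable
import Cfsg.Agent.BlocksChars.Degrees
import Cfsg.Agent.GStructB.Cover
import Cfsg.Agent.Solvable.HallOrder

/-!
All characters of degree prime to `p` having degree prime to `q` forces the normalizer of a Sylow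
`p`-subgroup to normalise a Sylow `q`-subgroup.
-/

set_option autoImplicit false
set_option linter.style.haveILetI false
set_option linter.unusedSectionVars false

namespace Cfsg.Agent.CharTheory.CrossCoprime

open Cfsg.Agent.Characters Cfsg.Agent.BlockCharsA Cfsg.Agent.CharTheory.RelativeM
open scoped Pointwise commutatorElement

universe u

/-- Degree prime to `p` implies degree prime to `q`. -/
def Cross (G : Type u) [Group G] (p q : ℕ) : Prop :=
  ∀ χ : Cfsg.IrrCharacter G, ¬ p ∣ Cfsg.charDegree (χ : G → ℂ) →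
    ¬ q ∣ Cfsg.charDegree (χ : G → ℂ)

variable {G : Type u} [Group G] [Finite G] {p q : ℕ} [Fact p.Prime] [Fact q.Prime]

theorem cross_quotient (h : Cross G p q) (N : Subgroup G) [N.Normal] : Cross (G ⧸ N) p q :=
  fun χ => h ⟨(χ : G ⧸ N → ℂ) ∘ QuotientGroup.mk' N,
    isIrrCharacter_comp_surjective _ (QuotientGroup.mk'_surjective N) χ.2⟩

/-- A character of degree prime to `p` has a constituent of degree prime to `p`. -/
theorem exists_constituent_not_dvd [Fintype G] {Φ : G → ℂ} (hΦ : Cfsg.IsCharacter G Φ) {n : ℕ}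
    (hn : Φ 1 = (n : ℂ)) (hp : ¬ p ∣ n) :
    ∃ χ : Cfsg.IrrCharacter G, Cfsg.classInner Φ (χ : G → ℂ) ≠ 0 ∧
      ¬ p ∣ Cfsg.charDegree (χ : G → ℂ) := by
  classical
  haveI := Fintype.ofFinite (Cfsg.IrrCharacter G)
  choose a ha using fun χ : Cfsg.IrrCharacter G => classInner_char_nat hΦ (irr_isCharacter χ)
  have hsum : n = ∑ χ : Cfsg.IrrCharacter G, a χ * Cfsg.charDegree (χ : G → ℂ) := by
    have h := congrFun (classFun_eq_sum (char_isClassFunction hΦ)) 1
    simp only [Finset.sum_apply, Pi.smul_apply, smul_eq_mul, ha, hn,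
      ← BlocksChars.Degrees.charDegree_cast, ← Nat.cast_mul, ← Nat.cast_sum] at h
    exact_mod_cast h
  by_contra hno
  push Not at hno
  refine hp (hsum ▸ Finset.dvd_sum fun χ _ => ?_)
  by_cases h0 : a χ = 0
  · rw [h0, zero_mul]; exact dvd_zero p
  · exact (hno χ (by rw [ha]; exact_mod_cast h0)).mul_left _

variable (hps : Cfsg.IsPSolvable p G) (hqs : Cfsg.IsPSolvable q G) (hpq : p ≠ q)
  (hcross : Cross G p q) (P : Sylow p G) (N : Subgroup G) [N.Normal] [Fintype N] (Q : Sylow q G)
  (hquot : Subgroup.normalizer (((P.mapSurjective (QuotientGroup.mk'_surjective N) :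
      Sylow p (G ⧸ N)) : Subgroup (G ⧸ N)) : Set (G ⧸ N)) ≤
    Subgroup.normalizer (((Q.mapSurjective (QuotientGroup.mk'_surjective N) :
      Sylow q (G ⧸ N)) : Subgroup (G ⧸ N)) : Set (G ⧸ N)))

include hps hqs hpq hcross hquot in
/-- A constituent extendible to a subgroup containing `P` with degree prime to `p` is fixed
by `Q`. -/
theorem le_inertia_of_extends (R : Subgroup G) (hPR : (P : Subgroup G) ≤ R) (hNR : N ≤ R)
    {η : R → ℂ} (hη : Cfsg.IsIrrCharacter R η) (hηp : ¬ p ∣ Cfsg.charDegree η)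
    (hres : Cfsg.IsIrrCharacter N fun n : N => η ⟨n, hNR n.2⟩) :
    (Q : Subgroup G) ≤ inertia N fun n : N => η ⟨n, hNR n.2⟩ := by
  classical
  haveI := Fintype.ofFinite G
  haveI := Fintype.ofFinite R
  haveI := Fintype.ofFinite (N.subgroupOf R)
  set θ : N → ℂ := fun n : N => η ⟨n, hNR n.2⟩ with hθ
  set T := inertia N θ
  have hNT : N ≤ T := le_inertia (char_isClassFunction (isCharacter_of_isIrr hres))
  have hPT : (P : Subgroup G) ≤ T := fun r hr => mem_inertia.2 (funext fun n => by
    rw [Clifford.conjBy_apply, hθ]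
    exact char_isClassFunction (isCharacter_of_isIrr hη) ⟨n, hNR n.2⟩ ⟨r, hPR hr⟩)
  obtain ⟨d, hd⟩ := char_one_nat (isCharacter_of_isIrr hη)
  have hdη : Cfsg.charDegree η = d := by
    rw [Cfsg.charDegree, hd]; simp
  obtain ⟨χ, hχ, hχp⟩ := exists_constituent_not_dvd (p := p)
    (isCharacter_indFun R (isCharacter_of_isIrr hη)) (n := R.index * d)
    (by rw [indFun_one, hd, Nat.cast_mul]) (by
      intro h
      rcases (Fact.out : p.Prime).dvd_mul.1 h with h | h
      · exact P.not_dvd_index (h.trans (Subgroup.index_dvd_of_le hPR))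
      · exact hηp (hdη ▸ h))
  have hχR : Cfsg.classInner (fun r : R => (χ : G → ℂ) r) η ≠ 0 := by
    rw [frobenius_reciprocity R η (irr_isClassFunction χ)] at hχ
    rw [classInner_conj_symm]
    simpa using hχ
  have hover : Cfsg.classInner (fun n : N => (χ : G → ℂ) n) θ ≠ 0 := by
    set en := Subgroup.subgroupOfEquivOfLe hNR
    have h1 := Clifford.classInner_restrict_ne_zero (N.subgroupOf R)
      (isCharacter_restrict R (irr_isCharacter χ)) hη (φ := θ ∘ en)
      (isCharacter_comp en.toMonoidHom (isCharacter_of_isIrr hres)) hχR (by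
        rw [show (fun h : N.subgroupOf R => η h) = θ ∘ en from funext fun h => rfl,
          classInner_isIrr_self ((isIrrCharacter_comp_mulEquiv en).2 hres)]
        exact one_ne_zero)
    rw [← Basics.classInner_comp_equiv en]
    exact h1
  obtain ⟨m, hm⟩ := classInner_char_nat (isCharacter_restrict N (irr_isCharacter χ))
    (isCharacter_of_isIrr hres)
  have hdeg := Clifford.card_mul_degree N χ.2 hres hover T fun g => mem_inertia
  have hdvd : T.index ∣ Cfsg.charDegree (χ : G → ℂ) := by
    obtain ⟨d', hd'⟩ := char_one_nat (isCharacter_of_isIrr hres)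
    refine Dvd.intro (m * d') ?_
    have h1 : (Cfsg.charDegree (χ : G → ℂ) : ℂ) = ((T.index * (m * d') : ℕ) : ℂ) := by
      refine mul_left_cancel₀
        (Nat.cast_ne_zero.2 (Nat.card_pos (α := T)).ne' : (Nat.card T : ℂ) ≠ 0) ?_
      rw [BlocksChars.Degrees.charDegree_cast, hdeg, hm, ← T.card_mul_index, hd',
        Nat.cast_mul, Nat.cast_mul, Nat.cast_mul]
      ring
    exact_mod_cast h1.symm
  have hqT : ¬ q ∣ (T.map (QuotientGroup.mk' N)).index := fun h =>
    hcross χ hχp (h.trans ((Subgroup.index_map_dvd _ (QuotientGroup.mk'_surjective N)).trans hdvd))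
  have h2 := (unique_and_contains _ (G ⧸ N) le_rfl (PLocal.PSolvable.quotient hps N)
    (PLocal.PSolvable.quotient hqs N) hpq _ _ hquot).2 (T.map (QuotientGroup.mk' N))
    (Subgroup.map_mono hPT) hqT
  have h3 : ((Q : Subgroup G).map (QuotientGroup.mk' N)).comap (QuotientGroup.mk' N) ≤
      (T.map (QuotientGroup.mk' N)).comap (QuotientGroup.mk' N) := Subgroup.comap_mono h2
  rw [Subgroup.comap_map_eq, Subgroup.comap_map_eq, QuotientGroup.ker_mk',
    sup_eq_left.2 hNT] at h3
  exact le_sup_left.trans h3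

include hquot in
theorem nrm_le_sup : Subgroup.normalizer ((P : Subgroup G) : Set G) ≤
    Subgroup.normalizer (((Q : Subgroup G) ⊔ N : Subgroup G) : Set G) := by
  intro g hg
  have h := hquot (Subgroup.le_normalizer_map _ (Subgroup.mem_map_of_mem (QuotientGroup.mk' N) hg))
  have hall : ∀ y ∈ (Q : Subgroup G) ⊔ N, g * y * g⁻¹ ∈ (Q : Subgroup G) ⊔ N := by
    have e : ((Q : Subgroup G).map (QuotientGroup.mk' N)).comap (QuotientGroup.mk' N) =
        (Q : Subgroup G) ⊔ N := by rw [Subgroup.comap_map_eq, QuotientGroup.ker_mk']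
    intro y hy
    rw [← e, Subgroup.mem_comap] at hy ⊢
    rw [map_mul, map_mul, map_inv]
    exact (Subgroup.mem_normalizer_iff.1 h _).1 hy
  rw [Subgroup.mem_normalizer_iff]
  exact fun y => ⟨hall y, RealPPrime.mem_of_conj_mem _ _ hall⟩

include hps hqs hpq hcross hquot in
/-- The minimal normal subgroup is a `p`-group. -/
theorem step_p (hNp : IsPGroup p N) (hab : ∀ a ∈ N, ∀ b ∈ N, a * b = b * a) :
    Subgroup.normalizer ((P : Subgroup G) : Set G) ≤
      Subgroup.normalizer ((Q : Subgroup G) : Set G) := by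
  classical
  have hqN : ¬ q ∣ Nat.card N := not_dvd_of_isPGroup hNp (Ne.symm hpq)
  have hNP : N ≤ (P : Subgroup G) := le_sylow hNp P
  have hcop : (Nat.card (Q : Subgroup G)).Coprime (Nat.card N) := by
    obtain ⟨k, hk⟩ := IsPGroup.iff_card.1 Q.isPGroup'
    rw [hk]
    exact ((Fact.out : q.Prime).coprime_iff_not_dvd.2 hqN).pow_left k
  have hQN : (Q : Subgroup G) ≤ Subgroup.normalizer (N : Set G) :=
    le_top.trans (Subgroup.normalizer_eq_top_iff.2 ‹N.Normal›).ge
  haveI : Group.IsSolvable (Q : Subgroup G) := by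
    haveI : Group.IsNilpotent (Q : Subgroup G) := Q.isPGroup'.isNilpotent
    infer_instance
  have hlin : ∀ (μ : (P : Subgroup G) →* ℂˣ) (n : N) (y : G) (_ : y ∈ (Q : Subgroup G)),
      μ ⟨y * n * y⁻¹, hNP ((‹N.Normal›).conj_mem n n.2 y)⟩ = μ ⟨n, hNP n.2⟩ := by
    intro μ n y hy
    have hres : Cfsg.IsIrrCharacter N fun n : N => (μ ⟨n, hNP n.2⟩ : ℂ) :=
      isIrrCharacter_linear (μ.comp (Subgroup.inclusion hNP))
    have hle := le_inertia_of_extends hps hqs hpq hcross P N Q hquot (P : Subgroup G) le_rfl hNP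
      (η := fun r => (μ r : ℂ)) (isIrrCharacter_linear μ) (by
        rw [Cfsg.charDegree, map_one, Units.val_one]
        simpa using (Fact.out : p.Prime).one_lt.ne') hres
    have h1 := congrFun (mem_inertia.1 (hle hy)) n
    rw [Clifford.conjBy_apply] at h1
    exact Units.ext h1
  have hcomm : (⁅N, (Q : Subgroup G)⁆ : Subgroup G) ≤
      (commutator (P : Subgroup G)).map (P : Subgroup G).subtype := by
    rw [Subgroup.commutator_le]
    intro n hn y hy
    have hc : y * n⁻¹ * y⁻¹ ∈ N := (‹N.Normal›).conj_mem _ (N.inv_mem hn) y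
    refine ⟨⟨⁅n, y⁆, ?_⟩, ?_, rfl⟩
    · rw [commutatorElement_def, show n * y * n⁻¹ * y⁻¹ = n * (y * n⁻¹ * y⁻¹) by group]
      exact (P : Subgroup G).mul_mem (hNP hn) (hNP hc)
    · rw [SetLike.mem_coe, ← Abelianization.ker_of, MonoidHom.mem_ker]
      haveI : NeZero (Monoid.exponent (Abelianization (P : Subgroup G)) : ℂ) :=
        ⟨Nat.cast_ne_zero.2 Monoid.exponent_ne_zero_of_finite⟩
      by_contra hne
      obtain ⟨ψ, hψ⟩ := CommGroup.exists_apply_ne_one_of_hasEnoughRootsOfUnity
        (Abelianization (P : Subgroup G)) ℂ hne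
      refine hψ ?_
      have h1 := hlin (ψ.comp Abelianization.of) ⟨n⁻¹, N.inv_mem hn⟩ y hy
      have e : (⟨⁅n, y⁆, by
          rw [commutatorElement_def, show n * y * n⁻¹ * y⁻¹ = n * (y * n⁻¹ * y⁻¹) by group]
          exact (P : Subgroup G).mul_mem (hNP hn) (hNP hc)⟩ : (P : Subgroup G)) =
          (⟨n⁻¹, hNP (N.inv_mem hn)⟩ : (P : Subgroup G))⁻¹ *
            ⟨y * n⁻¹ * y⁻¹, hNP hc⟩ :=
        Subtype.ext (by simp [commutatorElement_def, mul_assoc])
      rw [e, map_mul, map_inv, map_mul, map_inv]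
      simp only [MonoidHom.comp_apply] at h1
      rw [h1, inv_mul_cancel]
  set W := (Q : Subgroup G) ⊔ N
  have hPW : (P : Subgroup G) ≤ Subgroup.normalizer (W : Set G) :=
    Subgroup.le_normalizer.trans (nrm_le_sup P N Q hquot)
  -- the part of `P` normalising `Q` generates `P` modulo the Frattini subgroup
  set U : Subgroup (P : Subgroup G) :=
    (Subgroup.normalizer ((Q : Subgroup G) : Set G)).subgroupOf (P : Subgroup G) with hU
  have hUtop : U ⊔ frattini (P : Subgroup G) = ⊤ := by
    rw [eq_top_iff]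
    intro x _
    -- move `Q` back inside `W`
    have hle : (((x : G) • Q : Sylow q G) : Subgroup G) ≤ W := by
      intro z hz
      have h1 := Transfer.Fusion.mem_smul_sylow_iff.1 hz
      have h2 := (Subgroup.mem_normalizer_iff.1 (hPW x.2) _).1 (le_sup_left (b := N) h1)
      simpa [mul_assoc] using h2
    obtain ⟨⟨w, hw⟩, hweq⟩ := MulAction.exists_smul_eq W
      (((x : G) • Q : Sylow q G).subtype hle) (Q.subtype le_sup_left)
    have hwx : (w * x : G) ∈ Subgroup.normalizer ((Q : Subgroup G) : Set G) := by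
      refine Sylow.smul_eq_iff_mem_normalizer.1 ?_
      have h1 : (MulAut.conj (⟨w, hw⟩ : W) • (((x : G) • Q : Sylow q G).subtype hle) : Sylow q W) =
          Q.subtype le_sup_left := hweq
      have h2 := congrArg (fun S : Sylow q W => (S : Subgroup W).map W.subtype) h1
      simp only [Coprime.sylow_map_smul, Sylow.coe_subtype] at h2
      rw [Subgroup.map_subgroupOf_eq_of_le hle, Subgroup.map_subgroupOf_eq_of_le le_sup_left] at h2
      refine Sylow.ext ?_
      refine Eq.trans ?_ h2
      rw [mul_smul]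
      rfl
    have hw' : w ∈ (↑((Q : Subgroup G) ⊔ N) : Set G) := hw
    rw [Subgroup.mul_normal] at hw'
    obtain ⟨h, hh, n, hn, rfl⟩ := hw'
    have hnx : n * x ∈ Subgroup.normalizer ((Q : Subgroup G) : Set G) := by
      have h1 := mul_mem (inv_mem (Subgroup.le_normalizer hh)) hwx
      rwa [← mul_assoc, ← mul_assoc, inv_mul_cancel, one_mul] at h1
    -- split `n` into a commutator part and a fixed part
    obtain ⟨c, hc, k, hk, hck⟩ := Coprime.exists_eq_centralizer_mul_commutator hQN hcop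
      (Or.inl inferInstance) (N.inv_mem hn)
    obtain ⟨k', hk', hkk'⟩ := hcomm hk
    have hcP : c ∈ (P : Subgroup G) := hNP hc.1
    have hc' : c ∈ Subgroup.normalizer ((Q : Subgroup G) : Set G) :=
      Subgroup.centralizer_le_normalizer _ hc.2
    have hcU : (⟨c, hcP⟩ : (P : Subgroup G)) ∈ U := Subgroup.mem_subgroupOf.2 hc'
    have hnxU : (⟨n * x, (P : Subgroup G).mul_mem (hNP hn) x.2⟩ : (P : Subgroup G)) ∈ U :=
      Subgroup.mem_subgroupOf.2 hnx
    haveI : Group.IsNilpotent (P : Subgroup G) := P.isPGroup'.isNilpotent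
    have hk'F : k' ∈ frattini (P : Subgroup G) := Coprime.commutator_le_frattini _ hk'
    have ex : x = (⟨c, hcP⟩ : (P : Subgroup G)) * k' *
        ⟨n * x, (P : Subgroup G).mul_mem (hNP hn) x.2⟩ := by
      refine Subtype.ext ?_
      show (x : G) = c * (k' : G) * (n * x)
      rw [show (k' : G) = k from hkk', ← hck, inv_mul_cancel_left]
    rw [ex]
    exact mul_mem (mul_mem (Subgroup.mem_sup_left hcU) (Subgroup.mem_sup_right hk'F))
      (Subgroup.mem_sup_left hnxU)
  have hPQ : (P : Subgroup G) ≤ Subgroup.normalizer ((Q : Subgroup G) : Set G) := by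
    have := frattini_nongenerating hUtop
    rw [hU, Subgroup.subgroupOf_eq_top] at this
    exact this
  have hcent := le_centralizer_of_normalizes Q hqN (hNP.trans hPQ)
  intro g hg
  refine Sylow.smul_eq_iff_mem_normalizer.1 ?_
  refine sylow_eq_of_le_sup Q _ hqN hcent fun z hz => ?_
  have h1 := Transfer.Fusion.mem_smul_sylow_iff.1 hz
  have h2 := (Subgroup.mem_normalizer_iff.1 (nrm_le_sup P N Q hquot hg) _).1
    (le_sup_left (b := N) h1)
  simpa [mul_assoc] using h2

end Cfsg.Agent.CharTheory.CrossCoprime
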