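import Mathlib
import Cfsg.Agent.Lib.CharTheory.CrossCoprime.Step

/-!
The step for a minimal normal subgroup of order prime to both primes.
-/

set_option autoImplicit false
set_option linter.style.haveILetI false
set_option linter.unusedSectionVars false

namespace Cfsg.Agent.CharTheory.CrossCoprime

open Cfsg.Agent.Characters Cfsg.Agent.BlockCharsA Cfsg.Agent.CharTheory.RelativeM
open scoped Pointwise commutatorElement

universe u

variable {G : Type u} [Group G] [Finite G] {p q : ℕ} [Fact p.Prime] [Fact q.Prime]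

theorem card_sylow_coprime {N : Subgroup G} {ℓ : ℕ} [Fact ℓ.Prime] {A : Subgroup G}
    (hA : IsPGroup ℓ A) (hN : ¬ ℓ ∣ Nat.card N) : (Nat.card A).Coprime (Nat.card N) := by
  obtain ⟨k, hk⟩ := IsPGroup.iff_card.1 hA
  rw [hk]
  exact ((Fact.out : ℓ.Prime).coprime_iff_not_dvd.2 hN).pow_left k

/-- Inside the preimage there is a lift normalised by `P`. -/
theorem exists_invariant_lift (hpq : p ≠ q) (P : Sylow p G) (N : Subgroup G) [N.Normal]
    (hpN : ¬ p ∣ Nat.card N) (Q : Sylow q G)
    (hquot : Subgroup.normalizer (((P.mapSurjective (QuotientGroup.mk'_surjective N) :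
        Sylow p (G ⧸ N)) : Subgroup (G ⧸ N)) : Set (G ⧸ N)) ≤
      Subgroup.normalizer (((Q.mapSurjective (QuotientGroup.mk'_surjective N) :
        Sylow q (G ⧸ N)) : Subgroup (G ⧸ N)) : Set (G ⧸ N))) :
    ∃ Q' : Sylow q G, (P : Subgroup G) ≤ Subgroup.normalizer ((Q' : Subgroup G) : Set G) ∧
      Q'.mapSurjective (QuotientGroup.mk'_surjective N) =
        Q.mapSurjective (QuotientGroup.mk'_surjective N) := by
  set W := (Q : Subgroup G) ⊔ N
  haveI := Fintype.ofFinite N
  have hPW : (P : Subgroup G) ≤ Subgroup.normalizer (W : Set G) :=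
    Subgroup.le_normalizer.trans (nrm_le_sup P N Q hquot)
  have hcop : (Nat.card (P : Subgroup G)).Coprime (Nat.card W) := by
    refine card_sylow_coprime P.isPGroup' fun h => ?_
    rcases (Fact.out : p.Prime).dvd_mul.1 (h.trans (Cores.card_sup_dvd_mul _ _)) with h' | h'
    · exact not_dvd_of_isPGroup Q.isPGroup' hpq h'
    · exact hpN h'
  haveI : Group.IsSolvable (P : Subgroup G) := by
    haveI : Group.IsNilpotent (P : Subgroup G) := P.isPGroup'.isNilpotent
    infer_instance
  obtain ⟨S, hS⟩ := Coprime.exists_invariant_sylow q hPW hcop (Or.inl inferInstance)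
  obtain ⟨⟨w, hw⟩, hwS⟩ := MulAction.exists_smul_eq W (Q.subtype le_sup_left) S
  have hmap : (((w • Q : Sylow q G)) : Subgroup G) = (S : Subgroup W).map W.subtype := by
    have h1 : (MulAut.conj (⟨w, hw⟩ : W) • (Q.subtype le_sup_left) : Sylow q W) = S := hwS
    rw [← h1, Coprime.sylow_map_smul, Sylow.coe_subtype,
      Subgroup.map_subgroupOf_eq_of_le le_sup_left]
    rfl
  refine ⟨w • Q, by rw [hmap]; exact hS, ?_⟩
  have hle : (((w • Q : Sylow q G)) : Subgroup G).map (QuotientGroup.mk' N) ≤
      (Q : Subgroup G).map (QuotientGroup.mk' N) := by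
    rw [hmap, Subgroup.map_le_iff_le_comap, Subgroup.comap_map_eq, QuotientGroup.ker_mk']
    exact Subgroup.map_subtype_le _
  refine Sylow.ext ?_
  exact (((w • Q : Sylow q G).mapSurjective (QuotientGroup.mk'_surjective N)).3
    ((Q.mapSurjective (QuotientGroup.mk'_surjective N)).isPGroup') hle).symm

variable (hps : Cfsg.IsPSolvable p G) (hqs : Cfsg.IsPSolvable q G) (hpq : p ≠ q)
  (hcross : Cross G p q) (P : Sylow p G) (N : Subgroup G) [N.Normal] [Fintype N] (Q : Sylow q G)
  (hquot : Subgroup.normalizer (((P.mapSurjective (QuotientGroup.mk'_surjective N) :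
      Sylow p (G ⧸ N)) : Subgroup (G ⧸ N)) : Set (G ⧸ N)) ≤
    Subgroup.normalizer (((Q.mapSurjective (QuotientGroup.mk'_surjective N) :
      Sylow q (G ⧸ N)) : Subgroup (G ⧸ N)) : Set (G ⧸ N)))
  (hpN : ¬ p ∣ Nat.card N) (hqN : ¬ q ∣ Nat.card N)

include hps hqs hpq hcross hquot hpN in
/-- Invariant characters of `N` are fixed by `Q`. -/
theorem fixed_by_sylow {θ : N → ℂ} (hθ : Cfsg.IsIrrCharacter N θ)
    (hP : (P : Subgroup G) ≤ inertia N θ) : (Q : Subgroup G) ≤ inertia N θ := by
  classical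
  set R := N ⊔ (P : Subgroup G) with hRdef
  have hNR : N ≤ R := le_sup_left
  have hPN : (P : Subgroup G) ≤ Subgroup.normalizer (N : Set G) :=
    le_top.trans (Subgroup.normalizer_eq_top_iff.2 ‹N.Normal›).ge
  set N₀ := N.subgroupOf R
  haveI := Fintype.ofFinite N₀
  haveI := Fintype.ofFinite R
  set en := Subgroup.subgroupOfEquivOfLe hNR
  set θ₀ : N₀ → ℂ := θ ∘ en with hθ₀def
  have hθ₀ : Cfsg.IsIrrCharacter N₀ θ₀ := (isIrrCharacter_comp_mulEquiv en).2 hθ
  have hcardN₀ : Nat.card N₀ = Nat.card N := Nat.card_congr en.toEquiv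
  have hidx : N₀.index = Nat.card (P : Subgroup G) := by
    have h := N₀.card_mul_index
    have h2 : Nat.card R = Nat.card N * Nat.card (P : Subgroup G) :=
      Coprime.card_sup_of_coprime hPN (card_sylow_coprime P.isPGroup' hpN).symm
    rw [hcardN₀, h2] at h
    exact Nat.eq_of_mul_eq_mul_left Nat.card_pos h
  have hR : R ≤ inertia N θ :=
    sup_le (le_inertia (char_isClassFunction (isCharacter_of_isIrr hθ))) hP
  have hinv : ∀ g : R, Clifford.conjBy N₀ g θ₀ = θ₀ := fun g =>
    funext fun x => congrFun (mem_inertia.1 (hR g.2)) (en x)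
  have hcopI : ∀ n, n ∣ Nat.card N → N₀.index.Coprime n := fun n hn =>
    (hidx ▸ card_sylow_coprime P.isPGroup' hpN).coprime_dvd_right hn
  obtain ⟨d, hd⟩ := char_one_nat (isCharacter_of_isIrr hθ₀)
  have hdd : Cfsg.charDegree θ₀ = d := by rw [Cfsg.charDegree, hd]; simp
  have hdN : d ∣ Nat.card N :=
    hdd ▸ hcardN₀ ▸ BlocksChars.Degrees.charDegree_dvd_card (⟨θ₀, hθ₀⟩ : Cfsg.IrrCharacter N₀)
  have hlin := ExtendChar.detChar_isLinear (isCharacter_of_isIrr hθ₀)
  obtain ⟨f, hf⟩ := ExtendChar.exists_hom hlin.1 hlin.2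
  obtain ⟨μ, hμ, -⟩ := ExtendChar.exists_linear_extension_coprime N₀ hlin (fun g n => by
      have h1 := ExtendChar.detChar_comp (MulAut.conjNormal g : N₀ ≃* N₀).toMonoidHom
        (isCharacter_of_isIrr hθ₀)
      have h2 : θ₀ ∘ (MulAut.conjNormal g : N₀ ≃* N₀).toMonoidHom = θ₀ := by
        rw [← Clifford.conjBy_eq_comp]; exact hinv g
      rw [h2] at h1
      refine Eq.trans ?_ (congrFun h1 n).symm
      exact congrArg (Cfsg.detChar θ₀) (Subtype.ext (MulAut.conjNormal_apply g n).symm))
    (hcopI _ (hcardN₀ ▸ orderOf_dvd_of_pow_eq_one (funext fun n => by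
      rw [Pi.pow_apply, Pi.one_apply, ← hf, ← Units.val_pow_eq_pow_val, ← map_pow,
        pow_card_eq_one', map_one, Units.val_one])))
  obtain ⟨η, hη, hηN⟩ := ExtendChar.exists_extension_det N₀ hθ₀ hinv hd (hcopI d hdN) μ hμ
  have hres : (fun n : N => η ⟨n, hNR n.2⟩) = θ := funext fun n =>
    (hηN ⟨⟨n, hNR n.2⟩, n.2⟩).trans (congrArg θ (Subtype.ext rfl))
  have h := le_inertia_of_extends hps hqs hpq hcross P N Q hquot R le_sup_right hNR hη (by
    rw [show Cfsg.charDegree η = d by
      rw [Cfsg.charDegree, show η 1 = θ₀ 1 from hηN 1, hd]; simp]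
    exact fun h => hpN (h.trans hdN)) (by rw [hres]; exact hθ)
  rw [hres] at h
  exact h

include hps hqs hpq hcross hquot hpN hqN in
/-- The minimal normal subgroup has order prime to both primes. -/
theorem step_coprime (hPQ : (P : Subgroup G) ≤ Subgroup.normalizer ((Q : Subgroup G) : Set G)) :
    Subgroup.normalizer ((P : Subgroup G) : Set G) ≤
      Subgroup.normalizer ((Q : Subgroup G) : Set G) := by
  classical
  set R := (Q : Subgroup G) ⊔ (P : Subgroup G) with hRdef
  have hcard : Nat.card R = Nat.card (Q : Subgroup G) * Nat.card (P : Subgroup G) :=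
    Coprime.card_sup_of_coprime hPQ
      (card_sylow_coprime Q.isPGroup' (not_dvd_of_isPGroup P.isPGroup' (Ne.symm hpq)))
  have hcop : (Nat.card R).Coprime (Nat.card N) := by
    rw [hcard]
    exact Nat.Coprime.mul_left (card_sylow_coprime Q.isPGroup' hqN)
      (card_sylow_coprime P.isPGroup' hpN)
  haveI hPs : Group.IsSolvable (P : Subgroup G) := by
    haveI : Group.IsNilpotent (P : Subgroup G) := P.isPGroup'.isNilpotent
    infer_instance
  haveI hRs : Group.IsSolvable R := by
    haveI : ((Q : Subgroup G).subgroupOf R).Normal :=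
      (Subgroup.normal_subgroupOf_iff_le_normalizer le_sup_left).2
        (sup_le Subgroup.le_normalizer hPQ)
    have hq : IsPGroup q ((Q : Subgroup G).subgroupOf R) :=
      Q.isPGroup'.of_equiv (Subgroup.subgroupOfEquivOfLe le_sup_left).symm
    have hp : IsPGroup p (R ⧸ (Q : Subgroup G).subgroupOf R) := by
      obtain ⟨k, hk⟩ := IsPGroup.iff_card.1 P.isPGroup'
      refine IsPGroup.of_card (n := k) ?_
      have h := ((Q : Subgroup G).subgroupOf R).card_mul_index
      rw [Nat.card_congr (Subgroup.subgroupOfEquivOfLe (le_sup_left : (Q : Subgroup G) ≤ R)).toEquiv,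
        hcard, Subgroup.index_eq_card] at h
      rw [Nat.eq_of_mul_eq_mul_left Nat.card_pos h, hk]
    haveI : Group.IsNilpotent ((Q : Subgroup G).subgroupOf R) := hq.isNilpotent
    haveI : Group.IsNilpotent (R ⧸ (Q : Subgroup G).subgroupOf R) := hp.isNilpotent
    exact Solvable.HallOrder.isSolvable_of_quotient (N := (Q : Subgroup G).subgroupOf R)
      inferInstance inferInstance
  letI actR : MulDistribMulAction R N :=
    MulDistribMulAction.compHom N ((MulAut.conjNormal (H := N)).comp R.subtype)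
  letI actP : MulDistribMulAction (P : Subgroup G) N :=
    MulDistribMulAction.compHom N ((MulAut.conjNormal (H := N)).comp (P : Subgroup G).subtype)
  have hsR : ∀ (s : R) (x : N), ((s • x : N) : G) = (s : G) * x * (s : G)⁻¹ := fun s x =>
    MulAut.conjNormal_apply (s : G) x
  have hsP : ∀ (s : (P : Subgroup G)) (x : N), ((s • x : N) : G) = (s : G) * x * (s : G)⁻¹ :=
    fun s x => MulAut.conjNormal_apply (s : G) x
  have hchar : ∀ χ : Cfsg.IrrCharacter N, Glauberman.IsInv R χ ↔
      Glauberman.IsInv (P : Subgroup G) χ := by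
    intro χ
    constructor
    · intro h s x
      have := h ⟨(s : G), le_sup_right (a := (Q : Subgroup G)) s.2⟩ x
      exact this
    · intro h
      have hP : (P : Subgroup G) ≤ inertia N (χ : N → ℂ) := fun r hr =>
        mem_inertia.2 (funext fun x => h ⟨r, hr⟩ x)
      have hR : R ≤ inertia N (χ : N → ℂ) :=
        sup_le (fixed_by_sylow hps hqs hpq hcross P N Q hquot hpN χ.2 hP) hP
      intro s x
      exact congrFun (mem_inertia.1 (hR s.2)) x
  have hclass : ∀ C : ConjClasses N, GlaubermanSolvable.IsInvClass (P : Subgroup G) C →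
      GlaubermanSolvable.IsInvClass R C := by
    intro C hC
    have h1 := GlaubermanSolvable.card_invariant _ N R le_rfl hcop.symm hRs
    have h2 := GlaubermanSolvable.card_invariant _ N (P : Subgroup G) le_rfl
      (card_sylow_coprime P.isPGroup' hpN).symm hPs
    have hcongr := Nat.card_congr (Equiv.subtypeEquivRight hchar)
    rw [h1, h2] at hcongr
    let f : {C : ConjClasses N // GlaubermanSolvable.IsInvClass R C} →
        {C : ConjClasses N // GlaubermanSolvable.IsInvClass (P : Subgroup G) C} :=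
      fun C => ⟨C.1, fun s g hg =>
        C.2 ⟨(s : G), le_sup_right (a := (Q : Subgroup G)) s.2⟩ g hg⟩
    have hf : Function.Injective f := fun a b h =>
      Subtype.ext (congrArg (fun z : {C : ConjClasses N //
        GlaubermanSolvable.IsInvClass (P : Subgroup G) C} => z.1) h)
    haveI : Finite (ConjClasses N) := inferInstance
    obtain ⟨D, hD⟩ := ((Nat.bijective_iff_injective_and_card f).2 ⟨hf, hcongr⟩).2 ⟨C, hC⟩
    have hD' : D.1 = C := congrArg Subtype.val hD
    exact hD' ▸ D.2
  -- the centralizers coincide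
  have hcent : N ⊓ Subgroup.centralizer ((P : Subgroup G) : Set G) ≤
      Subgroup.centralizer (R : Set G) := by
    set C := N ⊓ Subgroup.centralizer ((P : Subgroup G) : Set G)
    have htop : (N ⊓ Subgroup.centralizer (R : Set G)).subgroupOf C = ⊤ := by
      refine GStructB.Cover.eq_top_of_forall_conj _ fun g => ?_
      obtain ⟨⟨c, hc⟩, rfl⟩ : ∃ x : C, x = g := ⟨g, rfl⟩
      have hinvP : GlaubermanSolvable.IsInvClass (P : Subgroup G)
          (ConjClasses.mk (⟨c, hc.1⟩ : N)) := by
        intro s y hy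
        obtain ⟨w, hw⟩ := isConj_iff.1 (ConjClasses.mk_eq_mk_iff_isConj.1 hy)
        refine ConjClasses.mk_eq_mk_iff_isConj.2 (isConj_iff.2 ⟨s • w, ?_⟩)
        rw [← smul_inv', ← smul_mul', ← smul_mul', hw]
        refine Subtype.ext ?_
        rw [hsP]
        show (s : G) * c * (s : G)⁻¹ = c
        rw [Subgroup.mem_centralizer_iff.1 hc.2 s s.2, mul_inv_cancel_right]
      have hinvR := hclass _ hinvP
      have hRN : R ≤ Subgroup.normalizer (N : Set G) :=
        le_top.trans (Subgroup.normalizer_eq_top_iff.2 ‹N.Normal›).ge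
      set M := Subgroup.centralizer ({c} : Set G) ⊓ (N ⊔ R)
      have hM : N ⊔ M = N ⊔ R := by
        refine le_antisymm (sup_le le_sup_left inf_le_right) (sup_le le_sup_left fun r hr => ?_)
        obtain ⟨w, hw⟩ := isConj_iff.1 (ConjClasses.mk_eq_mk_iff_isConj.1
          (hinvR ⟨r, hr⟩ ⟨c, hc.1⟩ rfl))
        have hw' : (w : G) * (r * c * r⁻¹) * (w : G)⁻¹ = c := by
          have := congrArg Subtype.val hw
          simpa [hsR] using this
        have hmem : (w : G) * r ∈ M := by
          refine ⟨Subgroup.mem_centralizer_singleton_iff.2 ?_, Subgroup.mul_mem_sup w.2 hr⟩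
          conv_rhs => rw [← hw']
          group
        have := mul_mem (Subgroup.mem_sup_left (T := M) (N.inv_mem w.2))
          (Subgroup.mem_sup_right (S := N) hmem)
        rwa [inv_mul_cancel_left] at this
      obtain ⟨k, hk, hkM⟩ := Coprime.exists_le_conj_smul hRN hcop (Or.inl hRs) hM
      set d := k * c * k⁻¹
      have hd : d ∈ N ⊓ Subgroup.centralizer (R : Set G) := by
        refine ⟨(‹N.Normal›).conj_mem c hc.1 k, Subgroup.mem_centralizer_iff.2 fun r hr => ?_⟩
        obtain ⟨m, hm, hmr⟩ := hkM hr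
        have hmc := Subgroup.mem_centralizer_singleton_iff.1 hm.1
        have hr' : r = k * m * k⁻¹ := by rw [← hmr]; rfl
        rw [hr', show k * m * k⁻¹ * d = k * (m * c) * k⁻¹ by simp only [d]; group, hmc]
        simp only [d]
        group
      obtain ⟨m, hm, hmk⟩ := Coprime.exists_mul_mem_centralizer (A := (P : Subgroup G)) (K := N)
        (M := Subgroup.centralizer ({d} : Set G)) (k := k)
        (le_top.trans (Subgroup.normalizer_eq_top_iff.2 ‹N.Normal›).ge)
        (card_sylow_coprime P.isPGroup' hpN) (Or.inl hPs) hk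
        (fun r hr => Subgroup.mem_centralizer_singleton_iff.2
          ((Subgroup.mem_centralizer_iff.1 hd.2) r (le_sup_right (a := (Q : Subgroup G)) hr)))
        (by
          rintro x ⟨r, hr, rfl⟩
          refine Subgroup.mem_centralizer_singleton_iff.2 ?_
          show k * r * k⁻¹ * d = d * (k * r * k⁻¹)
          have h1 := Subgroup.mem_centralizer_iff.1 hc.2 r hr
          rw [show k * r * k⁻¹ * d = k * (r * c) * k⁻¹ by simp only [d]; group, h1]
          simp only [d]
          group)
      refine ⟨⟨(m * k)⁻¹, inv_mem hmk⟩, Subgroup.mem_subgroupOf.2 ?_⟩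
      show (m * k)⁻¹⁻¹ * c * (m * k)⁻¹ ∈ N ⊓ Subgroup.centralizer (R : Set G)
      have hmd := Subgroup.mem_centralizer_singleton_iff.1 hm.2
      rw [inv_inv, show m * k * c * (m * k)⁻¹ = m * d * m⁻¹ by simp only [d]; group, hmd,
        mul_inv_cancel_right]
      exact hd
    rw [Subgroup.subgroupOf_eq_top] at htop
    exact htop.trans inf_le_right
  -- conclusion
  set W := (Q : Subgroup G) ⊔ N
  have hPW : (P : Subgroup G) ≤ Subgroup.normalizer (W : Set G) :=
    Subgroup.le_normalizer.trans (nrm_le_sup P N Q hquot)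
  have hcopW : (Nat.card (P : Subgroup G)).Coprime (Nat.card W) := by
    refine card_sylow_coprime P.isPGroup' fun h => ?_
    rcases (Fact.out : p.Prime).dvd_mul.1 (h.trans (Cores.card_sup_dvd_mul _ _)) with h' | h'
    · exact not_dvd_of_isPGroup Q.isPGroup' hpq h'
    · exact hpN h'
  intro g hg
  have hgW : ((g • Q : Sylow q G) : Subgroup G) ≤ W := fun z hz => by
    have h1 := Transfer.Fusion.mem_smul_sylow_iff.1 hz
    have h2 := (Subgroup.mem_normalizer_iff.1 (nrm_le_sup P N Q hquot hg) _).1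
      (le_sup_left (b := N) h1)
    simpa [mul_assoc] using h2
  have hgP : (P : Subgroup G) ≤ Subgroup.normalizer (((g • Q : Sylow q G) : Subgroup G) : Set G) := by
    intro r hr
    refine Sylow.smul_eq_iff_mem_normalizer.1 ?_
    have h1 : g⁻¹ * r * g⁻¹⁻¹ ∈ (P : Subgroup G) :=
      (Subgroup.mem_normalizer_iff.1 (inv_mem hg) r).1 hr
    rw [smul_smul, show r * g = g * (g⁻¹ * r * g⁻¹⁻¹) by group, mul_smul,
      Sylow.smul_eq_iff_mem_normalizer.2 (hPQ h1)]
  obtain ⟨⟨c, hcW⟩, hc, hcS⟩ := Coprime.exists_centralizer_conj_sylow hPW hcopW (Or.inl hPs)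
    (Q.subtype le_sup_left) ((g • Q : Sylow q G).subtype hgW)
    (by rw [Sylow.coe_subtype, Subgroup.map_subgroupOf_eq_of_le le_sup_left]; exact hPQ)
    (by rw [Sylow.coe_subtype, Subgroup.map_subgroupOf_eq_of_le hgW]; exact hgP)
  have hcQ : c ∈ Subgroup.normalizer ((Q : Subgroup G) : Set G) := by
    have hc' : c ∈ (↑((Q : Subgroup G) ⊔ N) : Set G) := hcW
    rw [Subgroup.mul_normal] at hc'
    obtain ⟨h, hh, n, hn, rfl⟩ := hc'
    have hnC : n ∈ Subgroup.centralizer ((P : Subgroup G) : Set G) := by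
      refine Subgroup.mem_centralizer_iff.2 fun r hr => ?_
      have h1 : r * (h * n) = h * n * r := Subgroup.mem_centralizer_iff.1 hc r hr
      have hA : h⁻¹ * (r * h * r⁻¹) ∈ (Q : Subgroup G) :=
        mul_mem (inv_mem hh) ((Subgroup.mem_normalizer_iff.1 (hPQ hr) h).1 hh)
      have heq : h⁻¹ * (r * h * r⁻¹) = n * (r * n * r⁻¹)⁻¹ := by
        calc h⁻¹ * (r * h * r⁻¹) = h⁻¹ * (r * (h * n)) * n⁻¹ * r⁻¹ := by group
          _ = n * (r * n * r⁻¹)⁻¹ := by rw [h1]; group
      have hN' : h⁻¹ * (r * h * r⁻¹) ∈ N := by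
        rw [heq]
        exact N.mul_mem hn (N.inv_mem ((‹N.Normal›).conj_mem n hn r))
      have hone : h⁻¹ * (r * h * r⁻¹) = 1 := by
        obtain ⟨j, hj⟩ := Q.isPGroup' ⟨_, hA⟩
        have h3 := pow_gcd_eq_one.2 ⟨(congrArg Subtype.val hj :),
          orderOf_dvd_iff_pow_eq_one.1 (N.orderOf_dvd_natCard hN')⟩
        rwa [show Nat.gcd (q ^ j) (Nat.card N) = 1 from
          ((Fact.out : q.Prime).coprime_iff_not_dvd.2 hqN).pow_left j, pow_one] at h3
      rw [heq, mul_inv_eq_one] at hone
      rw [eq_mul_inv_iff_mul_eq] at hone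
      exact hone.symm
    refine mul_mem (Subgroup.le_normalizer hh) ?_
    exact Subgroup.centralizer_le_normalizer _
      (Subgroup.centralizer_le (SetLike.coe_subset_coe.2 (le_sup_left : (Q : Subgroup G) ≤ R))
        (hcent ⟨hn, hnC⟩))
  refine Sylow.smul_eq_iff_mem_normalizer.1 (Sylow.ext ?_)
  have h2 := congrArg (fun S : Sylow q W => (S : Subgroup W).map W.subtype) hcS
  simp only [Coprime.sylow_map_smul, Sylow.coe_subtype] at h2
  rw [Subgroup.map_subgroupOf_eq_of_le hgW, Subgroup.map_subgroupOf_eq_of_le le_sup_left] at h2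
  rw [← h2]
  exact Coprime.conj_smul_eq_self_iff.2 hcQ

end Cfsg.Agent.CharTheory.CrossCoprime
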