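import Mathlib
import Cfsg.Agent.Lib.CharTheory.CrossCoprime.StepCoprime

/-!
The normalizer theorem and its form for the quotient by the core of order prime to `p`.
-/

set_option autoImplicit false
set_option linter.style.haveILetI false
set_option linter.unusedSectionVars false

namespace Cfsg.Agent.CharTheory.CrossCoprime

open scoped Pointwise

universe u

variable {p q : ℕ} [Fact p.Prime] [Fact q.Prime]

theorem exists_sylow : ∀ (d : ℕ) (G : Type u) [Group G] [Finite G], Nat.card G ≤ d →
    Cfsg.IsPSolvable p G → Cfsg.IsPSolvable q G → p ≠ q → Cross G p q → ∀ (P : Sylow p G),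
    ∃ Q : Sylow q G, Subgroup.normalizer ((P : Subgroup G) : Set G) ≤
      Subgroup.normalizer ((Q : Subgroup G) : Set G) := by
  intro d
  induction d with
  | zero => intro G _ _ hd; exact absurd hd (by have := Nat.card_pos (α := G); omega)
  | succ d ih =>
    intro G _ _ hd hps hqs hpq hcross P
    classical
    rcases subsingleton_or_nontrivial G with hs | hs
    · obtain ⟨Q⟩ : Nonempty (Sylow q G) := inferInstance
      exact ⟨Q, fun x _ => by rw [Subsingleton.elim x 1]; exact one_mem _⟩
    obtain ⟨N, hN, -, hNne, hmin⟩ := Hall.exists_minimal_normal (⊤ : Subgroup G) bot_lt_top.ne'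
    haveI := hN
    haveI := Fintype.ofFinite N
    have hπ : Function.Surjective (QuotientGroup.mk' N) := QuotientGroup.mk'_surjective N
    have hlt : Nat.card (G ⧸ N) ≤ d := by
      have h1 := N.card_mul_index
      rw [Subgroup.index_eq_card] at h1
      have h2 := (Subgroup.one_lt_card_iff_ne_bot N).2 hNne
      have h3 : 0 < Nat.card (G ⧸ N) := Nat.card_pos
      nlinarith
    obtain ⟨Qb, hQb⟩ := ih (G ⧸ N) hlt (PLocal.PSolvable.quotient hps N)
      (PLocal.PSolvable.quotient hqs N) hpq (cross_quotient hcross N) (P.mapSurjective hπ)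
    obtain ⟨Q, rfl⟩ := Sylow.mapSurjective_surjective hπ q Qb
    rcases minimal_cases (p := q) hqs hNne hmin with hq | hq
    · refine ⟨Q, ?_⟩
      have h := nrm_le_sup P N Q hQb
      rwa [sup_eq_left.2 (le_sylow hq Q)] at h
    rcases minimal_cases (p := p) hps hNne hmin with hp | hp
    · haveI : Group.IsSolvable N := by
        haveI : Group.IsNilpotent N := hp.isNilpotent
        infer_instance
      haveI := Hall.minimal_normal_isMulCommutative hmin
      exact ⟨Q, step_p hps hqs hpq hcross P N Q hQb hp fun a ha b hb =>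
        congrArg Subtype.val (mul_comm' (⟨a, ha⟩ : N) ⟨b, hb⟩)⟩
    · obtain ⟨Q', hPQ', hQ'⟩ := exists_invariant_lift hpq P N hp Q hQb
      exact ⟨Q', step_coprime hps hqs hpq hcross P N Q' (hQ'.symm ▸ hQb) hp hq hPQ'⟩

/-- A Sylow `q`-subgroup centralizing a Sylow `p`-subgroup's part in the core is trivial. -/
theorem not_dvd_of_centralizes {X : Type u} [Group X] [Finite X] (hps : Cfsg.IsPSolvable p X)
    (hpq : p ≠ q) (hO : Cfsg.pPrimeCore p X = ⊥) (Q : Sylow q X)
    (hc : (Q : Subgroup X) ≤ Subgroup.centralizer (Cfsg.pCore p X : Set X)) :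
    ¬ q ∣ Nat.card X := by
  intro hd
  haveI : (Cfsg.pCore p X).Normal := Cores.pCore_normal p
  have hle := hc.trans (PLocal.PSolvable.centralizer_pCore_le hO (PLocal.PSolvable.subgroup hps _))
  exact not_dvd_of_isPGroup ((Cores.pCore_isPGroup (G := X) p).to_le hle) (Ne.symm hpq)
    (Q.dvd_card_of_dvd_card hd)

theorem not_dvd_card_of_cross {X : Type u} [Group X] [Finite X] (hps : Cfsg.IsPSolvable p X)
    (hqs : Cfsg.IsPSolvable q X) (hpq : p ≠ q) (hO : Cfsg.pPrimeCore p X = ⊥)
    (hcross : Cross X p q) : ¬ q ∣ Nat.card X := by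
  obtain ⟨P⟩ : Nonempty (Sylow p X) := inferInstance
  obtain ⟨Q, hQ⟩ := exists_sylow _ X le_rfl hps hqs hpq hcross P
  haveI : (Cfsg.pCore p X).Normal := Cores.pCore_normal p
  refine not_dvd_of_centralizes hps hpq hO Q (Subgroup.le_centralizer_iff.1 ?_)
  exact le_centralizer_of_normalizes Q
    (not_dvd_of_isPGroup (Cores.pCore_isPGroup (G := X) p) (Ne.symm hpq))
    ((Cores.pCore_le_sylow P).trans (Subgroup.le_normalizer.trans hQ))

end Cfsg.Agent.CharTheory.CrossCoprime
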